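import Mathlib

/-!
# The locus where a map into a finite module is surjective
-/

set_option autoImplicit false

universe u

open scoped TensorProduct

namespace Groth.Agent.SurjLocus

variable {R : Type u} [CommRing R] {M N : Type u} [AddCommGroup M] [Module R M] [AddCommGroup N] [Module R N]

theorem localized_iff (φ : M →ₗ[R] N) (p : PrimeSpectrum R) :
    Function.Surjective (LocalizedModule.map p.asIdeal.primeCompl φ) ↔
      p ∉ Module.support R (N ⧸ LinearMap.range φ) := by
  rw [LinearMap.localizedMap_surjective_iff_subsingleton_localized_coker, Module.notMem_support_iff]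

theorem tensor_iff [Module.Finite R N] (φ : M →ₗ[R] N) (p : PrimeSpectrum R) :
    Function.Surjective (φ.lTensor p.asIdeal.ResidueField) ↔
      p ∉ Module.support R (N ⧸ LinearMap.range φ) := by
  rw [Module.mem_support_iff_nontrivial_residueField_tensorProduct, not_nontrivial_iff_subsingleton]
  have hex := lTensor_exact p.asIdeal.ResidueField (LinearMap.exact_map_mkQ_range φ) (Submodule.mkQ_surjective _)
  have hsurj := LinearMap.lTensor_surjective p.asIdeal.ResidueField (Submodule.mkQ_surjective (LinearMap.range φ))
  constructor
  · intro h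
    refine ⟨fun a b => ?_⟩
    obtain ⟨a, rfl⟩ := hsurj a
    obtain ⟨b, rfl⟩ := hsurj b
    rw [(hex a).mpr (h a), (hex b).mpr (h b)]
  · intro h y
    exact (hex y).mp (Subsingleton.elim _ _)

theorem isOpen_locus [Module.Finite R N] (φ : M →ₗ[R] N) :
    IsOpen {p : PrimeSpectrum R | Function.Surjective (LocalizedModule.map p.asIdeal.primeCompl φ)} := by
  convert (Module.isClosed_support (R := R) (M := N ⧸ LinearMap.range φ)).isOpen_compl using 1
  ext p
  exact localized_iff φ p

theorem away_surjective (φ : M →ₗ[R] N) (f : R)
    (hf : (↑(PrimeSpectrum.basicOpen f) : Set (PrimeSpectrum R)) ⊆ {p | p ∉ Module.support R (N ⧸ LinearMap.range φ)}) :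
    Function.Surjective (LocalizedModule.map (Submonoid.powers f) φ) := by
  rw [LinearMap.localizedMap_surjective_iff_subsingleton_localized_coker]
  exact LocalizedModule.subsingleton_iff_disjoint.mpr (Set.disjoint_left.mpr fun p hp => hf hp)

end Groth.Agent.SurjLocus
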